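import Groth.Agent.JacTorsLib.PicGroup
import Groth.Agent.EtKummerLib.Basic
import Groth.Agent.MuConstLib.Main
import Groth.Agent.S15401
import Groth.Agent.S3244

/-!
# The first étale cohomology of roots of unity on a curve
-/

set_option autoImplicit false
set_option linter.style.haveILetI false
set_option linter.unusedSectionVars false
set_option backward.isDefEq.respectTransparency false
set_option backward.isDefEq.respectTransparency.types false
set_option maxHeartbeats 1000000

universe u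

open CategoryTheory CategoryTheory.Limits AlgebraicGeometry Opposite CategoryTheory.Abelian

noncomputable section

namespace JacTorsLib

theorem invertibleOn_of_field {k : Type u} [Field k] {X : Scheme.{u}} (f : X ⟶ Spec (CommRingCat.of k))
    {n : ℕ} (hn : (n : k) ≠ 0) : Dix.InvertibleOn X n := fun x h => by
  let φ : k →+* X.residueField x :=
    ((Scheme.ΓSpecIso (CommRingCat.of k)).inv ≫ f.appTop ≫ X.presheaf.germ ⊤ x trivial ≫ X.residue x).hom
  exact hn (φ.injective (by rw [map_natCast, map_zero]; exact h))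

/-- If all global units are `n`th powers, `H^1(μ_n)` injects into `H^1(G_m)`. -/
theorem injective_muι (X : Scheme.{u}) (n : ℕ) (hX : Dix.InvertibleOn X n)
    (hdiv : ∀ v : (Γ(X, ⊤))ˣ, ∃ w : (Γ(X, ⊤))ˣ, w ^ n = v) :
    Function.Injective ((EtCoh.HF X 1).map (EtCoh.muι X n)) := by
  have h := EtKummerLib.kummer_shortExact hX
  let hT := EtCore.topIsTerminal X
  rw [injective_iff_map_eq_zero]
  intro y hy
  obtain ⟨z, hz⟩ := Ext.covariant_sequence_exact₁ _ h y hy (n₀ := 0) rfl
  let t := Sheaf.H.equiv₀ (EtCoh.Gm X) hT z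
  obtain ⟨w, hw⟩ := hdiv ((show ULift.{u + 1} (Additive (Γ(X, ⊤))ˣ) from t).down.toMul)
  let s : ToType ((EtCoh.Gm X).obj.obj (op (EtCoh.top X))) := (ULift.up (Additive.ofMul w) : ULift.{u + 1} (Additive (Γ(X, ⊤))ˣ))
  have hst : n • s = t := MuConstLib.gmVal_injective X (by
    rw [MuConstLib.gmVal_nsmul]
    exact congrArg Units.val hw)
  have hz' : z = n • (Sheaf.H.equiv₀ (EtCoh.Gm X) hT).symm s := by
    rw [← map_nsmul, hst, AddEquiv.symm_apply_apply]
  rw [← hz]
  have e : (Ext.comp ((Sheaf.H.equiv₀ (EtCoh.Gm X) hT).symm s) (Ext.mk₀ (EtCoh.powMap X n)) (add_zero 0)) = z :=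
    (EtTransferLib.comp_mk₀_nsmul _ n).trans hz'.symm
  rw [← e, Ext.comp_assoc_of_second_deg_zero]
  exact (congrArg (fun r => Ext.comp _ r _) h.comp_extClass).trans (Ext.comp_zero _ _ _ _ _)

/-- The étale cohomology of `μ_n` in degree one on a curve over an algebraically closed field. -/
theorem nonempty_H1_mu (k : Type u) [Field k] [IsAlgClosed k] (X : Scheme.{u}) [X.Over (Spec (CommRingCat.of k))]
    [IsIntegral X] [IsProper (X ↘ Spec (CommRingCat.of k))] [Smooth (X ↘ Spec (CommRingCat.of k))]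
    (hdim : topologicalKrullDim ↥X = 1) (n : ℕ) (hn : (n : k) ≠ 0) :
    Nonempty ((Fin (2 * Curv2.genus k X) → ZMod n) ≃+ EtCoh.H X (EtCoh.mu X n) 1) := by
  haveI : GeometricallyIntegral (X ↘ Spec (CommRingCat.of k)) :=
    CurveBCLib.geometricallyIntegral_of_sepClosed (k := k) (X := X)
  haveI : GeometricallyConnected (X ↘ Spec (CommRingCat.of k)) :=
    Groth.Agent.WeilRes.geometricallyConnected_of_geometricallyIrreducible _
  haveI : CompactSpace X := QuasiCompact.compactSpace_of_compactSpace (X ↘ Spec (CommRingCat.of k))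
  haveI : QuasiSeparatedSpace X := quasiSeparatedSpace_of_quasiSeparated (X ↘ Spec (CommRingCat.of k))
  have hn0 : 0 < n := Nat.pos_of_ne_zero fun e => hn (by rw [e, Nat.cast_zero])
  letI := LMLib.law X
  obtain ⟨φ, hφi, hφ⟩ := exists_torsion_hom k X hdim n hn
  obtain ⟨e⟩ := Groth.Agent.S15401.result X
  have hX := invertibleOn_of_field (X ↘ Spec (CommRingCat.of k)) hn
  have hdiv : ∀ v : (Γ(X, ⊤))ˣ, ∃ w : (Γ(X, ⊤))ˣ, w ^ n = v := fun v => by
    let j : k →+* Γ(X, ⊤) :=
      ((Scheme.ΓSpecIso (CommRingCat.of k)).inv ≫ (X ↘ Spec (CommRingCat.of k)).appTop).hom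
    have hb : Function.Bijective j :=
      (H0Lib.bijective_app_of_geometrically (X ↘ Spec (CommRingCat.of k)) ⊤).comp
        (ConcreteCategory.bijective_of_isIso (Scheme.ΓSpecIso (CommRingCat.of k)).inv)
    obtain ⟨a, ha⟩ := hb.2 (v : Γ(X, ⊤))
    have hnz : a ≠ 0 := fun e => by
      haveI : Nonempty X := ⟨genericPoint X⟩
      exact v.ne_zero (by rw [← ha, e, map_zero])
    obtain ⟨b, hb'⟩ := IsAlgClosed.exists_pow_nat_eq a hn0
    have hbu : IsUnit (j b) := (isUnit_iff_ne_zero.2 fun e => hnz (by rw [← hb', e, zero_pow hn0.ne'])).map j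
    exact ⟨hbu.unit, Units.ext (by rw [Units.val_pow_eq_pow_val, IsUnit.unit_spec, ← map_pow, hb', ha])⟩
  let i : EtCoh.H X (EtCoh.mu X n) 1 →+ EtCoh.H X (EtCoh.Gm X) 1 := ((EtCoh.HF X 1).map (EtCoh.muι X n)).hom
  let Φ : (Fin (2 * Curv2.genus k X) → ZMod n) →+ EtCoh.H X (EtCoh.Gm X) 1 :=
    e.toAddMonoidHom.comp (MonoidHom.toAdditiveRight φ)
  have hΦi : Function.Injective Φ := e.injective.comp fun a b h => hφi h
  have hrange : Φ.range = i.range := by
    refine AddSubgroup.ext fun ξ => ?_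
    have h1 : ξ ∈ i.range ↔ n • ξ = 0 := Set.ext_iff.1 (Groth.Agent.S3244.result X n hn0 hX 1 le_rfl) ξ
    rw [h1]
    constructor
    · rintro ⟨v, rfl⟩
      have h2 : φ (Multiplicative.ofAdd v) ^ n = 1 := (hφ _).1 ⟨_, rfl⟩
      show n • e (Additive.ofMul (φ (Multiplicative.ofAdd v))) = 0
      rw [← map_nsmul, ← ofMul_pow, h2, ofMul_one, map_zero]
    · intro hξ
      obtain ⟨v, hv⟩ := (hφ (e.symm ξ).toMul).2 (by
        rw [← toMul_nsmul, ← map_nsmul, hξ, map_zero, toMul_zero])
      exact ⟨v.toAdd, (congrArg (fun a => e (Additive.ofMul a)) hv).trans (e.apply_symm_apply ξ)⟩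
  exact ⟨(AddMonoidHom.ofInjective hΦi).trans ((AddEquiv.addSubgroupCongr hrange).trans
    (AddMonoidHom.ofInjective (injective_muι X n hX hdiv)).symm)⟩

end JacTorsLib
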