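import Groth.Agent.JacTorsLib.Basic
import Groth.Agent.AVAmpleLib.TorsionStructure

/-!
# Torsion classes of a curve over an algebraically closed field
-/

set_option autoImplicit false
set_option linter.style.haveILetI false
set_option linter.unusedSectionVars false
set_option backward.isDefEq.respectTransparency false
set_option backward.isDefEq.respectTransparency.types false
set_option maxHeartbeats 1000000

universe u

open CategoryTheory CategoryTheory.Limits AlgebraicGeometry TopologicalSpace MonoidalCategory CartesianMonoidalCategory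
open scoped MonObj

noncomputable section

namespace JacTorsLib

variable (k : Type u) [Field k] [IsAlgClosed k] (X : Scheme.{u}) [X.Over (Spec (CommRingCat.of k))]
  [IsIntegral X] [IsProper (X ↘ Spec (CommRingCat.of k))] [Smooth (X ↘ Spec (CommRingCat.of k))]
  (hdim : topologicalKrullDim ↥X = 1)
include hdim

/-- The counts of torsion classes are those of the torsion points of an abelian variety of dimension the genus. -/
theorem exists_av : ∃ (A : Over (Spec (CommRingCat.of k))) (_ : GrpObj A) (_ : IsCommMonObj A) (_ : IsProper A.hom)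
    (_ : GeometricallyIntegral A.hom), topologicalKrullDim A.left = ((Curv2.genus k X : ℕ) : WithBot ℕ∞) ∧
      ∀ n : ℕ, n ≠ 0 → Nat.card (torsSet X n) = Nat.card (AVAmpleLib.tors A n) := by
  haveI : GeometricallyIntegral (X ↘ Spec (CommRingCat.of k)) :=
    CurveBCLib.geometricallyIntegral_of_sepClosed (k := k) (X := X)
  haveI : GeometricallyConnected (X ↘ Spec (CommRingCat.of k)) :=
    Groth.Agent.WeilRes.geometricallyConnected_of_geometricallyIrreducible _
  haveI : JacobsonSpace X := LocallyOfFiniteType.jacobsonSpace (X ↘ Spec (CommRingCat.of k))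
  obtain ⟨p, -, hp⟩ := nonempty_inter_closedPoints (Z := (Set.univ : Set X)) ⟨genericPoint X, trivial⟩
    isClosed_univ.isLocallyClosed
  have hpc : IsClosed ({p} : Set X) := mem_closedPoints_iff.1 hp
  obtain ⟨J, gJ, cJ, pJ, sJ, iJ, c, hc, hd⟩ := exists_rigJac (k := k) (C := X)
    (pointOfClosedPoint (X ↘ Spec (CommRingCat.of k)) p hpc) (pointOfClosedPoint_comp _ p hpc) hdim
  refine ⟨J, gJ, cJ, pJ, iJ, hd, fun n hn => ?_⟩
  rw [natCard_torsSet hdim hc hn]
  exact Nat.card_congr (Equiv.subtypeEquivRight fun t => (AbDual.mem_torsPts J t).symm)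

theorem natCard_torsSet_of_ne_zero (n : ℕ) (hn : (n : k) ≠ 0) :
    Nat.card (torsSet X n) = n ^ (2 * Curv2.genus k X) := by
  obtain ⟨A, _, _, _, _, hd, h⟩ := exists_av k X hdim
  rw [h n fun e => hn (by rw [e, Nat.cast_zero]), AVAmpleLib.natCard_tors A hd n hn]

theorem exists_pRank (p : ℕ) [Fact p.Prime] [CharP k p] : ∃ f : ℕ, f ≤ Curv2.genus k X ∧
    ∀ m : ℕ, 1 ≤ m → Nat.card (torsSet X (p ^ m)) = p ^ (m * f) := by
  obtain ⟨A, _, _, _, _, hd, h⟩ := exists_av k X hdim
  obtain ⟨i, hi, ⟨T⟩⟩ := AVAmpleLib.exists_pRank A hd p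
  refine ⟨i, hi, fun m _ => ?_⟩
  rw [h _ (pow_ne_zero _ (Fact.out : p.Prime).ne_zero), ← AVAmpleLib.natCard_tb,
    T.natCard_eq (Fact.out : p.Prime).ne_zero]

end JacTorsLib
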