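import Groth.Agent.JacAlbLib.WPoints
import Groth.Agent.SerreVanLib.CurveAmple
import Groth.Agent.CurveH0Lib.Conn

/-!
# Torsion classes of a curve with a rational point and torsion points of its Jacobian
-/

set_option autoImplicit false
set_option linter.style.haveILetI false
set_option linter.unusedSectionVars false
set_option backward.isDefEq.respectTransparency false
set_option backward.isDefEq.respectTransparency.types false
set_option maxRecDepth 8000
set_option maxHeartbeats 1000000

universe u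

open CategoryTheory CategoryTheory.Limits AlgebraicGeometry MonoidalCategory CartesianMonoidalCategory
open CubeConsLib (pull pull_comp pull_cl cl cl_eq_iff cl_tensor IsoCls)
open PicCurveLib JacAlbLib
open scoped MonObj

noncomputable section

namespace JacTorsLib

section Cls

variable {Y : Scheme.{u}}

/-- The two notions of isomorphism classes of modules agree. -/
def clEquiv (Y : Scheme.{u}) : PicF.Cl Y ≃ IsoCls Y where
  toFun := Quot.lift (fun L => cl L) fun _ _ h => cl_eq_iff.2 h
  invFun := Quotient.lift (fun L => PicF.cl L) fun _ _ h => Quot.sound h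
  left_inv := by rintro ⟨L⟩; rfl
  right_inv := Quotient.ind fun _ => rfl

/-- The invertible classes killed by `n`. -/
def torsSet (Y : Scheme.{u}) (n : ℕ) : Set (IsoCls Y) := {c | InvC c ∧ c ^ n = 1}

theorem natCard_eq (Y : Scheme.{u}) (n : ℕ) :
    Nat.card {c : PicF.Cl Y | ∃ M : Scheme.Modules Y, PicF.cl M = c ∧ PicF.IsInvertible M ∧
      Nonempty (CohB1.tensorPow M n ≅ Coh.structureModule Y)} = Nat.card (torsSet Y n) := by
  refine Nat.card_congr ((clEquiv Y).subtypeEquiv fun c => ?_)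
  constructor
  · rintro ⟨M, rfl, hM, he⟩
    exact ⟨⟨M, hM, rfl⟩, ((cl_tensorPow' M n).symm.trans (CubeConsLib.cl_eq_one_iff.2 he) :)⟩
  · rintro ⟨⟨M, hM, e⟩, hn⟩
    refine ⟨M, (clEquiv Y).injective e, hM, CubeConsLib.cl_eq_one_iff.1 ?_⟩
    rw [cl_tensorPow', e, hn]

end Cls

variable {k : Type u} [Field k] {C : Scheme.{u}} [C.Over (Spec (CommRingCat.of k))]
  [IsProper (C ↘ Spec (CommRingCat.of k))] [Smooth (C ↘ Spec (CommRingCat.of k))]
  [GeometricallyConnected (C ↘ Spec (CommRingCat.of k))] (hdim : topologicalKrullDim ↥C = 1)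

include hdim in
theorem fam : Fam (C ↘ Spec (CommRingCat.of k)) :=
  ⟨inferInstance, inferInstance, inferInstance, fun s => (EllLawLib.dim_fiber_spec _ s).trans hdim⟩

/-- A Jacobian of a curve with a rational point: an abelian variety of dimension the genus. -/
theorem exists_rigJac (σ : Spec (CommRingCat.of k) ⟶ C) (hσ : σ ≫ (C ↘ Spec (CommRingCat.of k)) = 𝟙 _)
    (hdim : topologicalKrullDim ↥C = 1) :
    ∃ (J : Over (Spec (CommRingCat.of k))) (_ : GrpObj J) (_ : IsCommMonObj J) (_ : IsProper J.hom) (_ : Smooth J.hom)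
      (_ : GeometricallyIntegral J.hom) (c : IsoCls (PicF.XT (C ↘ Spec (CommRingCat.of k)) J)),
      IsRigJac σ hσ J c ∧ topologicalKrullDim J.left = ((Curv2.genus k C : ℕ) : WithBot ℕ∞) := by
  have hf := fam (k := k) hdim
  obtain ⟨J, ξ, hp, hs, hc, hξ, hu⟩ := PicCurveLib.exists_jacobian
    (rfl : C ↘ Spec (CommRingCat.of k) = C ↘ Spec (CommRingCat.of k)) hf σ hσ
  haveI := hp; haveI := hs; haveI := hc
  haveI : Flat (C ↘ Spec (CommRingCat.of k)) := inferInstance
  obtain ⟨grp, c, hJ⟩ := exists_grp_rigJac hf ξ hξ hu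
  letI := grp
  haveI : GeometricallyIntegral J.hom := FibVALib.geometricallyIntegral_of_geometricallyConnected J.hom
  haveI : IsCommMonObj J := CubeConsLib.isCommMonObj_field
  obtain ⟨j, hj⟩ := exists_abel hf hJ
  exact ⟨J, grp, inferInstance, hp, hs, inferInstance, c, hJ, dim_jac hf hJ hj⟩

variable {σ : Spec (CommRingCat.of k) ⟶ C} {hσ : σ ≫ (C ↘ Spec (CommRingCat.of k)) = 𝟙 _}
  {J : Over (Spec (CommRingCat.of k))} [GrpObj J] [IsCommMonObj J]
  {c : IsoCls (PicF.XT (C ↘ Spec (CommRingCat.of k)) J)} (hc : IsRigJac σ hσ J c)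
include hdim hc

theorem tcl_pow (t : 𝟙_ (Over (Spec (CommRingCat.of k))) ⟶ J) : ∀ n : ℕ, tcl c (t ^ n) = tcl c t ^ n
  | 0 => by rw [pow_zero, pow_zero]; exact tcl_one hdim (fam hdim) hc
  | n + 1 => by rw [pow_succ, pow_succ, tcl_mul hc, tcl_pow t n]

/-- An invertible class of degree zero is the class of a rational point of the Jacobian. -/
theorem exists_tcl_eq {L : C.Modules} (hL : PicF.IsInvertible L) (hd : Curv2.deg k C L 1 = 0) :
    ∃ t : 𝟙_ (Over (Spec (CommRingCat.of k))) ⟶ J, tcl c t = cl L := by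
  have hf := fam (k := k) hdim
  haveI : IsIso (toXT₀ (k := k) (C := C)) := (isPullback_toXT₀ (k := k) (C := C)).isIso_fst_of_isIso
  let a := inv (toXT₀ (k := k) (C := C))
  let L' := (Scheme.Modules.pullback a).obj L
  have hL' : PicF.IsInvertible L' := AmpleDevLib.isInvertible_pb _ hL
  have e0 : pull (toXT₀ (k := k) (C := C)) (cl L') = cl L := by
    show pull _ (cl ((Scheme.Modules.pullback a).obj L)) = _
    rw [← pull_cl, pull_comp, IsIso.hom_inv_id, DescAppLib.pull_id]
  have hrig : RigZero σ hσ (𝟙_ (Over (Spec (CommRingCat.of k)))) (cl L') := by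
    refine ⟨⟨L', hL', rfl, fun t => ?_⟩, invC_spec (InvC.pull ⟨L', hL', rfl⟩ _)⟩
    have h := PicCurveLib.deg_point (C ↘ Spec (CommRingCat.of k)) hf.dim_le (𝟙_ _) hL' (K := k) (Z := C)
      (g' := toXT₀) (v := 𝟙 _) (isPullback_toXT₀ (k := k) (C := C)) (IsLocalRing.closedPoint k)
    rw [show t = (𝟙 (Spec (CommRingCat.of k)) : _ ⟶ _) (IsLocalRing.closedPoint k) from
      Subsingleton.elim (α := PrimeSpectrum k) _ _]
    refine h.symm.trans ?_
    rw [chi_of_cl (K := k) (N := L) (show cl ((Scheme.Modules.pullback (toXT₀ (k := k) (C := C))).obj L') = cl L from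
      (pull_cl _ _).symm.trans e0), chi_eq_euler hf, chi_eq_euler hf]
    simpa [Curv2.deg] using hd
  obtain ⟨t, ht, -⟩ := hc.bij _ _ hrig
  refine ⟨t, ?_⟩
  rw [tcl, ht, e0]

/-- Torsion classes of the curve and torsion points of the Jacobian. -/
theorem natCard_torsSet {n : ℕ} (hn : n ≠ 0) :
    Nat.card (torsSet C n) = Nat.card {t : 𝟙_ (Over (Spec (CommRingCat.of k))) ⟶ J // t ^ n = 1} := by
  have hf := fam (k := k) hdim
  haveI := FibVALib.geometricallyIntegral_of_geometricallyConnected (C ↘ Spec (CommRingCat.of k))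
  haveI : IsIntegral C := GeometricallyIntegral.isIntegral_of_subsingleton (C ↘ Spec (CommRingCat.of k))
  let F : {t : 𝟙_ (Over (Spec (CommRingCat.of k))) ⟶ J // t ^ n = 1} → torsSet C n := fun t =>
    ⟨tcl c t.1, invC_tcl hdim hf hc t.1, by rw [← tcl_pow hdim hc, t.2, tcl_one hdim hf hc]⟩
  refine (Nat.card_eq_of_bijective F ⟨?_, ?_⟩).symm
  · intro s t h
    exact Subtype.ext (tcl_inj hdim hf hc (congrArg Subtype.val h))
  · rintro ⟨d, ⟨L, hL, rfl⟩, hd⟩
    have h1 : (n : ℤ) * Curv2.deg k C L 1 = 0 := by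
      have h := SerreVanLib.deg_pow (k := k) hdim hL n
      rw [← chi_eq_euler hf, chi_of_cl (K := k) (N := Coh.structureModule C)
        ((cl_tensorPow' L n).trans hd), chi_eq_euler hf] at h
      linarith
    obtain ⟨t, ht⟩ := exists_tcl_eq hdim hc hL ((mul_eq_zero.1 h1).resolve_left (by exact_mod_cast hn))
    exact ⟨⟨t, tcl_inj hdim hf hc (by rw [tcl_pow hdim hc, ht, hd, tcl_one hdim hf hc])⟩, Subtype.ext ht⟩

end JacTorsLib
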