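import Groth.Agent.AbSchLib.MulN
import Groth.Agent.CubeConsLib.FieldHom

/-!
# Torsion points with values in field extensions
-/

set_option autoImplicit false
set_option linter.style.haveILetI false
set_option linter.unusedSectionVars false
set_option maxHeartbeats 1000000

universe u

open CategoryTheory CategoryTheory.Limits MonoidalCategory CartesianMonoidalCategory MonObj AlgebraicGeometry

noncomputable section

namespace JacTorsLib

variable {k : Type u} [Field k]

/-- The spectrum of an extension as a scheme over the field. -/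
abbrev specOver (k : Type u) [Field k] (L : Type u) [Field L] [Algebra k L] : Over (Spec (CommRingCat.of k)) :=
  Over.mk (Spec.map (CommRingCat.ofHom (algebraMap k L)))

/-- The `n`-torsion of an abelian variety is a finite étale algebra. -/
theorem exists_etale_algebra (A : Over (Spec (CommRingCat.of k))) [GrpObj A] [IsCommMonObj A] [IsProper A.hom]
    [GeometricallyIntegral A.hom] (n : ℕ) (hn : (n : k) ≠ 0) :
    ∃ (B : Type u) (_ : CommRing B) (_ : Algebra k B), Module.Finite k B ∧ Algebra.Etale k B ∧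
      ∀ (L : Type u) [Field L] [Algebra k L],
        Nat.card {g : specOver k L ⟶ A // g ^ n = 1} = Nat.card (B →ₐ[k] L) := by
  haveI : LocallyOfFinitePresentation A.hom := LocallyOfFinitePresentation.iff_locallyOfFiniteType.2 inferInstance
  have hunit : IsUnit (((n : ℤ)) : Γ(Spec (CommRingCat.of k), ⊤)) := by
    have := (isUnit_iff_ne_zero.2 hn).map (Scheme.ΓSpecIso (CommRingCat.of k)).inv.hom
    simpa using this
  haveI : IsFinite (𝟙 A ^ (n : ℤ)).left := (AbSchLib.isFinite_etale_zpow A (n : ℤ) hunit).1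
  haveI : Etale (𝟙 A ^ (n : ℤ)).left := (AbSchLib.isFinite_etale_zpow A (n : ℤ) hunit).2
  let f := (𝟙 A ^ (n : ℤ)).left
  let e₀ : Spec (CommRingCat.of k) ⟶ A.left := η[A].left
  let q := pullback.snd f e₀
  haveI : IsAffine (pullback f e₀) := isAffine_of_isAffineHom q
  obtain ⟨ψ, hψ⟩ := Spec.map_surjective ((pullback f e₀).isoSpec.inv ≫ q)
  have hfin : ψ.hom.Finite := (IsFinite.SpecMap_iff ψ).mp (hψ ▸ (inferInstance : IsFinite ((pullback f e₀).isoSpec.inv ≫ q)))
  have het : ψ.hom.Etale := (HasRingHomProperty.Spec_iff (P := @Etale)).mp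
    (hψ ▸ (inferInstance : Etale ((pullback f e₀).isoSpec.inv ≫ q)))
  let B := Γ(pullback f e₀, ⊤)
  letI : Algebra k B := ψ.hom.toAlgebra
  refine ⟨B, inferInstance, inferInstance, hfin, het, fun L _ _ => ?_⟩
  let sL := Spec.map (CommRingCat.ofHom (algebraMap k L))
  have key : ∀ g : specOver k L ⟶ A, g ^ n = 1 ↔ g.left ≫ f = sL ≫ e₀ := fun g => by
    rw [← zpow_natCast g n, show g ^ (n : ℤ) = g ≫ (𝟙 A ^ (n : ℤ)) by rw [GrpObj.comp_zpow, Category.comp_id]]
    exact ⟨fun h => congrArg Over.Hom.left h, fun h => Over.OverMorphism.ext h⟩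
  have hov : ∀ φ : B →ₐ[k] L,
      (Spec.map (CommRingCat.ofHom φ.toRingHom) ≫ (pullback f e₀).isoSpec.inv) ≫ q = sL := fun φ => by
    rw [Category.assoc, ← hψ, ← Spec.map_comp]
    congr 1
    ext r
    exact φ.commutes r
  let pt : (B →ₐ[k] L) → (Spec (CommRingCat.of L) ⟶ A.left) := fun φ =>
    (Spec.map (CommRingCat.ofHom φ.toRingHom) ≫ (pullback f e₀).isoSpec.inv) ≫ pullback.fst f e₀
  have hpt : ∀ φ, pt φ ≫ f = sL ≫ e₀ := fun φ => by
    rw [Category.assoc, pullback.condition, ← Category.assoc, hov]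
  have hA : ∀ a : Spec (CommRingCat.of L) ⟶ A.left, a ≫ f = sL ≫ e₀ → a ≫ A.hom = sL := fun a ha => by
    rw [← show f ≫ A.hom = A.hom from Over.w _, ← Category.assoc, ha, Category.assoc,
      show e₀ ≫ A.hom = 𝟙 _ from Over.w η[A], Category.comp_id]
  let F : (B →ₐ[k] L) → {g : specOver k L ⟶ A // g ^ n = 1} := fun φ =>
    ⟨Over.homMk (pt φ) (hA _ (hpt φ)), (key _).2 (hpt φ)⟩
  refine (Nat.card_eq_of_bijective F ⟨?_, ?_⟩).symm
  · intro φ φ' e
    have e' : pt φ = pt φ' := congrArg (fun g : {g : specOver k L ⟶ A // g ^ n = 1} => g.1.left) e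
    have h : Spec.map (CommRingCat.ofHom φ.toRingHom) ≫ (pullback f e₀).isoSpec.inv =
        Spec.map (CommRingCat.ofHom φ'.toRingHom) ≫ (pullback f e₀).isoSpec.inv :=
      pullback.hom_ext e' ((hov φ).trans (hov φ').symm)
    exact AlgHom.ext fun b => congrArg (fun t : B ⟶ CommRingCat.of L => t.hom b)
      (Spec.map_inj.mp ((cancel_mono _).mp h))
  · rintro ⟨g, hg⟩
    obtain ⟨χ, hχ⟩ := Spec.map_surjective (pullback.lift g.left sL ((key g).1 hg) ≫ (pullback f e₀).isoSpec.hom)
    have hc : ψ ≫ χ = CommRingCat.ofHom (algebraMap k L) := by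
      apply Spec.map_injective
      rw [Spec.map_comp, hψ, hχ, Category.assoc, Iso.hom_inv_id_assoc]
      exact pullback.lift_snd _ _ _
    refine ⟨{ χ.hom with commutes' := fun r => congrArg (fun t : CommRingCat.of k ⟶ _ => t.hom r) hc },
      Subtype.ext (Over.OverMorphism.ext ?_)⟩
    show (Spec.map χ ≫ (pullback f e₀).isoSpec.inv) ≫ pullback.fst f e₀ = g.left
    rw [hχ, Category.assoc, Category.assoc, Iso.hom_inv_id_assoc]
    exact pullback.lift_fst _ _ _

theorem isSeparable_of_surjective {B : Type u} [CommRing B] [Algebra k B] [Module.Finite k B] [Algebra.Etale k B]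
    (L : Type u) [Field L] [Algebra k L] (π : B →ₐ[k] L) (hπ : Function.Surjective π) : Algebra.IsSeparable k L := by
  haveI : Module.Finite k L := Module.Finite.of_surjective π.toLinearMap hπ
  haveI : Algebra.FormallyUnramified k L := Algebra.FormallyUnramified.of_surjective π hπ
  exact Algebra.FormallyUnramified.isSeparable k L

theorem isSeparable_map' {E : Type u} [Field E] [Algebra k E] {K : Type u} [Field K] [Algebra k K] (v : E →ₐ[k] K)
    [hE : Algebra.IsSeparable k E] (e : E) : IsSeparable k (v e) :=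
  IsSeparable.map v v.injective (hE.isSeparable' e)

theorem isSeparable_apply {B : Type u} [CommRing B] [Algebra k B] [Module.Finite k B] [Algebra.Etale k B]
    {K : Type u} [Field K] [Algebra k K] (φ : B →ₐ[k] K) (b : B) : IsSeparable k (φ b) := by
  have key : ∀ (E : IntermediateField k K), E.toSubalgebra = φ.range → IsSeparable k (φ b) := fun E hE => by
    have hm : ∀ y, φ y ∈ E := fun y => by
      rw [← IntermediateField.mem_toSubalgebra, hE]; exact ⟨y, rfl⟩
    haveI := isSeparable_of_surjective E (φ.codRestrict E.toSubalgebra hm) fun ⟨x, hx⟩ => by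
      obtain ⟨y, hy⟩ := (hE ▸ ((IntermediateField.mem_toSubalgebra _ _).2 hx) : x ∈ φ.range)
      exact ⟨y, Subtype.ext hy⟩
    exact isSeparable_map' E.val ⟨φ b, hm b⟩
  exact key (φ.range.toIntermediateField fun x ⟨y, hy⟩ =>
    φ.range.inv_mem_of_algebraic (x := ⟨x, y, hy⟩) (show IsAlgebraic k x from
      (hy : φ y = x) ▸ ((IsIntegral.of_finite k y).map φ).isAlgebraic)) rfl

/-- The field generated by all values of an étale algebra: it splits the algebra and has bounded degree. -/
theorem exists_split_field (B : Type u) [CommRing B] [Algebra k B] [Module.Finite k B] [Algebra.Etale k B]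
    (K : Type u) [Field K] [Algebra k K] [IsAlgClosed K] :
    ∃ k' : IntermediateField k K, FiniteDimensional k k' ∧ Algebra.IsSeparable k k' ∧
      Module.finrank k k' ≤ Nat.factorial (Nat.card (B →ₐ[k] K)) ∧
      Nat.card (B →ₐ[k] k') = Nat.card (B →ₐ[k] K) := by
  haveI : Finite (B →ₐ[k] K) := inferInstance
  let S : Set K := ⋃ φ : B →ₐ[k] K, φ '' (Set.range (Module.Free.chooseBasis k B))
  haveI : Finite S := Set.Finite.to_subtype (Set.finite_iUnion fun φ => (Set.finite_range _).image _)
  have hsep := isSeparable_apply (k := k) (B := B) (K := K)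
  let k' : IntermediateField k K := IntermediateField.adjoin k S
  haveI hsepk : Algebra.IsSeparable k k' := (IntermediateField.isSeparable_adjoin_iff_isSeparable k K).2 fun x hx => by
    obtain ⟨φ, b, -, rfl⟩ := Set.mem_iUnion.1 hx
    exact hsep φ b
  haveI : FiniteDimensional k k' := IntermediateField.finiteDimensional_adjoin fun x hx => by
    obtain ⟨φ, b, -, rfl⟩ := Set.mem_iUnion.1 hx
    exact (hsep φ b).isIntegral
  have hmem : ∀ (φ : B →ₐ[k] K) (b : B), φ b ∈ k' := fun φ b => by
    rw [← (Module.Free.chooseBasis k B).sum_repr b, map_sum]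
    refine sum_mem fun i _ => ?_
    rw [map_smul]
    exact IntermediateField.smul_mem _ (IntermediateField.subset_adjoin k S
      (Set.mem_iUnion.2 ⟨φ, _, Set.mem_range_self i, rfl⟩))
  refine ⟨k', inferInstance, hsepk, ?_, ?_⟩
  · let G : (k' →ₐ[k] K) → (B →ₐ[k] K) → (B →ₐ[k] K) := fun σ φ =>
      σ.comp (φ.codRestrict k'.toSubalgebra (hmem φ))
    have hG : ∀ σ, Function.Bijective (G σ) := fun σ => Finite.injective_iff_bijective.1 fun φ φ' h =>
      AlgHom.ext fun b => congrArg Subtype.val (σ.toRingHom.injective (AlgHom.congr_fun h b))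
    have hGi : Function.Injective fun σ => Equiv.ofBijective (G σ) (hG σ) := fun σ τ h => by
      refine IntermediateField.algHom_ext_of_eq_adjoin (F := k) (E := K) (S := k') (s := S) rfl fun x hx => ?_
      obtain ⟨φ, b, -, rfl⟩ := Set.mem_iUnion.1 hx
      exact AlgHom.congr_fun (congrFun (congrArg (fun e : Equiv.Perm (B →ₐ[k] K) => (e : _ → _)) h) φ) b
    have := Nat.card_le_card_of_injective _ hGi
    rwa [Nat.card_perm, Nat.card_eq_fintype_card, AlgHom.card k k' K] at this
  · refine Nat.card_eq_of_bijective (fun ψ => k'.val.comp ψ) ⟨fun a b h => ?_, fun φ => ?_⟩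
    · exact AlgHom.ext fun x => k'.val.toRingHom.injective (AlgHom.congr_fun h x)
    · exact ⟨φ.codRestrict k'.toSubalgebra (hmem φ), AlgHom.ext fun x => rfl⟩

end JacTorsLib
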