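import Groth.Agent.JacTorsLib.Rel
import Groth.Agent.JacTorsLib.AlgClosed
import Groth.Agent.JacTorsLib.Split
import Groth.Agent.VeryAmpleLib.Bc

/-!
# Splitting the torsion of the Picard group of a curve
-/

set_option autoImplicit false
set_option linter.style.haveILetI false
set_option linter.unusedSectionVars false
set_option backward.isDefEq.respectTransparency false
set_option backward.isDefEq.respectTransparency.types false
set_option maxRecDepth 8000
set_option maxHeartbeats 1000000

universe u

open CategoryTheory CategoryTheory.Limits AlgebraicGeometry MonoidalCategory CartesianMonoidalCategory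
open PicCurveLib JacAlbLib
open scoped MonObj

noncomputable section

namespace JacTorsLib

attribute [local instance] VeryAmpleLib.bcOver

variable (k : Type u) [Field k] (X : Scheme.{u}) [X.Over (Spec (CommRingCat.of k))]
  [IsIntegral X] [IsProper (X ↘ Spec (CommRingCat.of k))] [Smooth (X ↘ Spec (CommRingCat.of k))]
  (hdim : topologicalKrullDim ↥X = 1) (h0 : Module.finrank k (Coh.HH X (Coh.structureModule X) 0) = 1)
include hdim h0

/-- Over a finite separable extension with a point, a further bounded one carries all the `n`-torsion classes. -/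
theorem exists_splitting (n : ℕ) (hn : (n : k) ≠ 0) (k' : Type u) [Field k'] [Algebra k k']
    [FiniteDimensional k k'] [Algebra.IsSeparable k k']
    (σ : Spec (CommRingCat.of k') ⟶ pullback (X ↘ Spec (CommRingCat.of k)) (Spec.map (CommRingCat.ofHom (algebraMap k k'))))
    (hσ : σ ≫ pullback.snd _ _ = 𝟙 _) :
    ∃ (L : Type u) (_ : Field L) (_ : Algebra k L), FiniteDimensional k L ∧ Algebra.IsSeparable k L ∧
      Module.finrank k L ≤ Module.finrank k k' * Nat.factorial (n ^ (2 * Curv2.genus k X)) ∧
      (∃ x : Spec (CommRingCat.of L) ⟶ Curv2.bc k X L, x ≫ Curv2.bcSnd k X L = 𝟙 _) ∧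
      Nat.card (torsSet (Curv2.bc k X L) n) = n ^ (2 * Curv2.genus k X) := by
  haveI : GeometricallyConnected (X ↘ Spec (CommRingCat.of k)) := CurveH0Lib.geometricallyConnected_of_h0 k h0
  haveI := FibVALib.geometricallyIntegral_of_geometricallyConnected (X ↘ Spec (CommRingCat.of k))
  let t := Spec.map (CommRingCat.ofHom (algebraMap k k'))
  let C' := pullback (X ↘ Spec (CommRingCat.of k)) t
  letI : C'.Over (Spec (CommRingCat.of k')) := ⟨pullback.snd _ t⟩
  have hf' : Fam (C' ↘ Spec (CommRingCat.of k')) := fam_snd (fam hdim) t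
  haveI := hf'.proper; haveI := hf'.smooth; haveI := hf'.conn
  obtain ⟨J, gJ, cJ, pJ, sJ, iJ, c, hc, -⟩ := exists_rigJac (k := k') (C := C') σ hσ (dim_total_field hf')
  have hn' : (n : k') ≠ 0 := fun h => hn ((algebraMap k k').injective (by rw [map_natCast, map_zero, h]))
  have hn0 : n ≠ 0 := fun h => hn (by rw [h, Nat.cast_zero])
  obtain ⟨B, _, _, hB, hB', hcard⟩ := exists_etale_algebra J n hn'
  have key : ∀ (L : Type u) [Field L] [Algebra k' L] [Algebra k L] [IsScalarTower k k' L],
      Nat.card (torsSet (Curv2.bc k X L) n) = Nat.card (B →ₐ[k'] L) := fun L _ _ _ _ => by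
    rw [← hcard L, ← natCard_torsSet_rel hf' hc (specOver k' L) (fun e he => invC_spec (k := L) he) hn0]
    refine natCard_torsSet_congr (Iso.symm ?_) n
    refine pullbackLeftPullbackSndIso (X ↘ Spec (CommRingCat.of k)) t _ ≪≫ pullback.congrHom rfl ?_
    show Spec.map _ ≫ Spec.map _ = _
    rw [← Spec.map_comp, ← CommRingCat.ofHom_comp, ← IsScalarTower.algebraMap_eq]
  let K := AlgebraicClosure k'
  haveI := VeryAmpleLib.isProper_bc k X K
  haveI := VeryAmpleLib.isIntegral_bc k X K
  haveI : Smooth (Curv2.bc k X K ↘ Spec (CommRingCat.of K)) :=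
    MorphismProperty.of_isPullback (VeryAmpleLib.isPullback_bc k X K) inferInstance
  have hK : Nat.card (torsSet (Curv2.bc k X K) n) = n ^ (2 * Curv2.genus k X) := by
    rw [natCard_torsSet_of_ne_zero K (Curv2.bc k X K) ((VeryAmpleLib.dim_bc k X K).trans hdim) n
      (fun h => hn ((algebraMap k K).injective (by rw [map_natCast, map_zero]; exact h))), VeryAmpleLib.genus_bc k X K]
  obtain ⟨E, hEf, hEs, hEd, hEc⟩ := exists_split_field (k := k') B K
  haveI := hEf; haveI := hEs
  haveI : IsScalarTower k k' E := IsScalarTower.of_algebraMap_eq fun r =>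
    Subtype.ext (IsScalarTower.algebraMap_apply k k' K r)
  refine ⟨E, inferInstance, inferInstance, FiniteDimensional.trans k k' E, Algebra.IsSeparable.trans k k' E, ?_, ?_,
    ((key E).trans hEc).trans ((key K).symm.trans hK)⟩
  · rw [← Module.finrank_mul_finrank k k' E, ← hK, key K]
    exact Nat.mul_le_mul_left _ hEd
  · refine ⟨pullback.lift (Spec.map (CommRingCat.ofHom (algebraMap k' E)) ≫ σ ≫ pullback.fst _ _) (𝟙 _) ?_,
      pullback.lift_snd _ _ _⟩
    rw [Category.id_comp, Category.assoc, Category.assoc, pullback.condition, reassoc_of% hσ, ← Spec.map_comp,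
      ← CommRingCat.ofHom_comp, ← IsScalarTower.algebraMap_eq]

end JacTorsLib
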