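import Groth.Agent.JacTorsLib.AlgClosed
import Groth.Agent.LMLib.Rank

/-!
# The structure of the torsion of the Picard group of a curve
-/

set_option autoImplicit false
set_option linter.style.haveILetI false
set_option linter.unusedSectionVars false
set_option backward.isDefEq.respectTransparency false
set_option backward.isDefEq.respectTransparency.types false
set_option maxHeartbeats 1000000

universe u

open CategoryTheory CategoryTheory.Limits AlgebraicGeometry TopologicalSpace MonoidalCategory CartesianMonoidalCategory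
open CubeConsLib (IsoCls cl)
open PicCurveLib JacAlbLib
open scoped MonObj

noncomputable section

namespace JacTorsLib

theorem clEquiv_mulCl {Y : Scheme.{u}} (a b : PicF.Cl Y) :
    clEquiv Y (PicGrp.mulCl a b) = clEquiv Y a * clEquiv Y b := by
  induction a using Quot.ind with
  | mk L => induction b using Quot.ind with
    | mk M => exact CubeConsLib.cl_tensor L M

/-- The Picard group maps into the monoid of all classes. -/
def picHom (Y : Scheme.{u}) [PicGrp.Law Y] : PicLoc.PicSet Y →* IsoCls Y where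
  toFun a := clEquiv Y a.1
  map_one' := by rw [PicGrp.Law.one_eq]; rfl
  map_mul' a b := by rw [PicGrp.Law.mul_val, clEquiv_mulCl]

theorem picHom_injective (Y : Scheme.{u}) [PicGrp.Law Y] : Function.Injective (picHom Y) :=
  fun _ _ h => Subtype.ext ((clEquiv Y).injective h)

theorem exists_picHom_eq {Y : Scheme.{u}} [PicGrp.Law Y] {c : IsoCls Y} (hc : InvC c) : ∃ a, picHom Y a = c := by
  obtain ⟨L, hL, rfl⟩ := hc
  exact ⟨PicGrp.cls L hL, rfl⟩

variable (k : Type u) [Field k] [IsAlgClosed k] (X : Scheme.{u}) [X.Over (Spec (CommRingCat.of k))]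
  [IsIntegral X] [IsProper (X ↘ Spec (CommRingCat.of k))] [Smooth (X ↘ Spec (CommRingCat.of k))]
  (hdim : topologicalKrullDim ↥X = 1)
include hdim

/-- The `n`-torsion of the Picard group is free of rank twice the genus over `ℤ/n`. -/
theorem exists_torsion_hom [PicGrp.Law X] (n : ℕ) (hn : (n : k) ≠ 0) :
    ∃ φ : Multiplicative (Fin (2 * Curv2.genus k X) → ZMod n) →* PicLoc.PicSet X,
      Function.Injective φ ∧ ∀ a : PicLoc.PicSet X, a ∈ φ.range ↔ a ^ n = 1 := by
  haveI : GeometricallyIntegral (X ↘ Spec (CommRingCat.of k)) :=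
    CurveBCLib.geometricallyIntegral_of_sepClosed (k := k) (X := X)
  haveI : GeometricallyConnected (X ↘ Spec (CommRingCat.of k)) :=
    Groth.Agent.WeilRes.geometricallyConnected_of_geometricallyIrreducible _
  haveI : JacobsonSpace X := LocallyOfFiniteType.jacobsonSpace (X ↘ Spec (CommRingCat.of k))
  obtain ⟨p, -, hp⟩ := nonempty_inter_closedPoints (Z := (Set.univ : Set X)) ⟨genericPoint X, trivial⟩
    isClosed_univ.isLocallyClosed
  have hpc : IsClosed ({p} : Set X) := mem_closedPoints_iff.1 hp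
  obtain ⟨J, gJ, cJ, pJ, sJ, iJ, c, hc, hd⟩ := exists_rigJac (k := k) (C := X)
    (pointOfClosedPoint (X ↘ Spec (CommRingCat.of k)) p hpc) (pointOfClosedPoint_comp _ p hpc) hdim
  have hf := fam (k := k) hdim
  have hn0 : n ≠ 0 := fun e => hn (by rw [e, Nat.cast_zero])
  obtain ⟨e⟩ := AVAmpleLib.nonempty_mulEquiv J hd n hn
  choose ψ hψ using fun t => exists_picHom_eq (invC_tcl hdim hf hc t)
  let Ψ : (𝟙_ (Over (Spec (CommRingCat.of k))) ⟶ J) →* PicLoc.PicSet X := MonoidHom.mk' ψ fun s t =>
    picHom_injective X (by rw [map_mul, hψ, hψ, hψ, tcl_mul hc])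
  have hΨi : Function.Injective Ψ := fun s t h => tcl_inj hdim hf hc (by rw [← hψ, ← hψ]; exact congrArg (picHom X) h)
  refine ⟨Ψ.comp ((AVAmpleLib.tors J n).subtype.comp e.symm.toMonoidHom),
    hΨi.comp (Subtype.val_injective.comp e.symm.injective), fun a => ⟨?_, fun ha => ?_⟩⟩
  · rintro ⟨v, rfl⟩
    show Ψ (e.symm v).1 ^ n = 1
    rw [← map_pow, (AbDual.mem_torsPts J _).1 (e.symm v).2, map_one]
  · obtain ⟨L, hL, rfl⟩ := PicGrp.exists_eq_cls a
    have h1 : picHom X (PicGrp.cls L hL) ^ n = 1 := by rw [← map_pow, ha, map_one]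
    have hd0 : Curv2.deg k X L 1 = 0 := by
      have h2 := SerreVanLib.deg_pow (k := k) hdim hL n
      rw [← chi_eq_euler hf, chi_of_cl (K := k) (N := Coh.structureModule X)
        ((cl_tensorPow' L n).trans (h1 :)), chi_eq_euler hf] at h2
      exact (mul_eq_zero.1 (by linarith : (n : ℤ) * Curv2.deg k X L 1 = 0)).resolve_left (by exact_mod_cast hn0)
    obtain ⟨t, ht⟩ := exists_tcl_eq hdim hc hL hd0
    have hte : Ψ t = PicGrp.cls L hL := picHom_injective X ((hψ t).trans ht)
    have htn : t ∈ AVAmpleLib.tors J n :=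
      (AbDual.mem_torsPts J t).2 (hΨi (by rw [map_pow, hte, ha, map_one]))
    exact ⟨e ⟨t, htn⟩, (congrArg (fun z => Ψ z.1) (e.symm_apply_apply ⟨t, htn⟩)).trans hte⟩

end JacTorsLib
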