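import Groth.Agent.JacTorsLib.Main
import Groth.Agent.JacAlbLib.PicDescent

/-!
# Points with separable residue fields as rational points after extension
-/

set_option autoImplicit false
set_option linter.style.haveILetI false
set_option linter.unusedSectionVars false
set_option backward.isDefEq.respectTransparency false
set_option backward.isDefEq.respectTransparency.types false
set_option maxHeartbeats 1000000

universe u

open CategoryTheory CategoryTheory.Limits AlgebraicGeometry

noncomputable section

namespace JacTorsLib

variable (k : Type u) [Field k] (X : Scheme.{u}) [X.Over (Spec (CommRingCat.of k))]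

theorem exists_sec (x : X) :
    letI := Curv2.resAlgebra k X x
    ∃ σ : Spec (CommRingCat.of (X.residueField x)) ⟶ pullback (X ↘ Spec (CommRingCat.of k))
        (Spec.map (CommRingCat.ofHom (algebraMap k (X.residueField x)))), σ ≫ pullback.snd _ _ = 𝟙 _ := by
  letI alg : Algebra k (X.residueField x) := Curv2.resAlgebra k X x
  have hw : X.fromSpecResidueField x ≫ (X ↘ Spec (CommRingCat.of k)) =
      Spec.map (CommRingCat.ofHom (algebraMap k (X.residueField x))) := by
    let p := X ↘ Spec (CommRingCat.of k)
    have hr : Spec.map (CommRingCat.ofHom (Curv2.resMap k X x)) = X.fromSpecResidueField x ≫ p := by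
      have hc : CommRingCat.ofHom (Curv2.resMap k X x) =
          (Scheme.ΓSpecIso (CommRingCat.of k)).inv ≫ p.appTop ≫ X.presheaf.germ ⊤ x trivial ≫ X.residue x := rfl
      rw [hc, Spec.map_comp, Spec.map_comp, Spec.map_comp]
      show _ = (Spec.map (X.residue x) ≫ X.fromSpecStalk x) ≫ p
      simp only [Category.assoc]
      congr 1
      rw [← Scheme.fromSpecStalk_toSpecΓ_assoc, ← Scheme.toSpecΓ_naturality_assoc]
      simp [toSpecΓ_SpecMap_ΓSpecIso_inv]
    exact hr.symm
  exact ⟨pullback.lift (X.fromSpecResidueField x) (𝟙 _) (by rw [Category.id_comp]; exact hw),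
    pullback.lift_snd _ _ _⟩

end JacTorsLib
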