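import Groth.Agent.JacTorsLib.Basic

/-!
# Torsion classes of a family of curves with a section and torsion points of its Jacobian
-/

set_option autoImplicit false
set_option linter.style.haveILetI false
set_option linter.unusedSectionVars false
set_option backward.isDefEq.respectTransparency false
set_option backward.isDefEq.respectTransparency.types false
set_option maxRecDepth 8000
set_option maxHeartbeats 1000000

universe u

open CategoryTheory CategoryTheory.Limits AlgebraicGeometry MonoidalCategory CartesianMonoidalCategory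
open CubeConsLib (pull pull_comp pull_cl cl cl_eq_iff cl_tensor IsoCls)
open PicCurveLib JacAlbLib
open scoped MonObj

noncomputable section

namespace JacTorsLib

variable {C S : Scheme.{u}} {f : C ⟶ S} [IsProper f] [Flat f] [LocallyOfFinitePresentation f] [Smooth f]
  [GeometricallyConnected f] (hf : Fam f)
  {σ : S ⟶ C} {hσ : σ ≫ f = 𝟙 S} {J : Over S} [GrpObj J] [IsCommMonObj J]
  {c : IsoCls (PicF.XT f J)} (hc : IsRigJac σ hσ J c)
include hf hc

theorem pull_pow (T : Over S) (g : T ⟶ J) : ∀ n : ℕ,
    pull (PicF.XTmap f (g ^ n)) c = pull (PicF.XTmap f g) c ^ n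
  | 0 => by rw [pow_zero, pow_zero]; exact pull_one hf hc T
  | n + 1 => by rw [pow_succ, pow_succ, hc.mul, pull_pow T g n]

omit hc [GrpObj J] [IsCommMonObj J] in
theorem deg_tensorPow (T : Over S) {L : (PicF.XT f T).Modules} (hL : PicF.IsInvertible L) (t : T.left) :
    ∀ n : ℕ, deg f T (CohB1.tensorPow L n) t = n * deg f T L t
  | 0 => by show deg f T (Coh.structureModule _) t = _; rw [deg_structure T t]; simp
  | n + 1 => by
    show deg f T (CohB1.tensorMod (CohB1.tensorPow L n) L) t = _
    rw [deg_tensor hf T (AmpleThLib.tensorPow_isInvertible hL n) hL t, deg_tensorPow T hL t n]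
    push_cast; ring

/-- Over a base without nontrivial line bundles, torsion classes of the family are torsion points of the Jacobian. -/
theorem natCard_torsSet_rel (T : Over S) (hT : ∀ e : IsoCls T.left, InvC e → e = 1) {n : ℕ} (hn : n ≠ 0) :
    Nat.card (torsSet (PicF.XT f T) n) = Nat.card {g : T ⟶ J // g ^ n = 1} := by
  let F : {g : T ⟶ J // g ^ n = 1} → torsSet (PicF.XT f T) n := fun g =>
    ⟨pull (PicF.XTmap f g.1) c, by
      obtain ⟨L, hL, e, -⟩ := (rigZero_pull hf σ hσ g.1 hc.rigZero).rep
      exact ⟨L, hL, e⟩, by rw [← pull_pow hf hc, g.2, pull_one hf hc]⟩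
  refine (Nat.card_eq_of_bijective F ⟨fun g g' h => Subtype.ext (hom_ext hf hc (congrArg Subtype.val h)), ?_⟩).symm
  rintro ⟨d, ⟨L, hL, rfl⟩, hd⟩
  have hrig : RigZero σ hσ T (cl L) := by
    refine ⟨⟨L, hL, rfl, fun t => ?_⟩, hT _ (InvC.pull ⟨L, hL, rfl⟩ _)⟩
    have h := PicCurveLib.deg_congr f hf.dim_le T (L := CohB1.tensorPow L n) (M := Coh.structureModule _)
      ((cl_tensorPow' L n).trans hd) t
    rw [deg_tensorPow hf T hL t n, deg_structure T t] at h
    exact (mul_eq_zero.1 h).resolve_left (by exact_mod_cast hn)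
  obtain ⟨g, hg, -⟩ := hc.bij _ _ hrig
  exact ⟨⟨g, hom_ext hf hc (by rw [pull_pow hf hc, hg, hd, pull_one hf hc])⟩, Subtype.ext hg⟩

omit hf hc [IsProper f] [Flat f] [LocallyOfFinitePresentation f] [Smooth f] [GeometricallyConnected f] in
/-- The count of torsion classes is an isomorphism invariant. -/
theorem natCard_torsSet_congr {Y Z : Scheme.{u}} (e : Y ≅ Z) (n : ℕ) :
    Nat.card (torsSet Y n) = Nat.card (torsSet Z n) := by
  have hm : ∀ {A B : Scheme.{u}} (a : A ⟶ B) (d : IsoCls B), d ∈ torsSet B n → pull a d ∈ torsSet A n :=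
    fun a d hd => ⟨hd.1.pull a, by rw [← map_pow, hd.2, map_one]⟩
  refine Nat.card_congr
    { toFun := fun d => ⟨pull e.inv d.1, hm _ _ d.2⟩
      invFun := fun d => ⟨pull e.hom d.1, hm _ _ d.2⟩
      left_inv := fun d => Subtype.ext ((pull_comp _ _ _).trans (by rw [e.hom_inv_id, DescAppLib.pull_id]))
      right_inv := fun d => Subtype.ext ((pull_comp _ _ _).trans (by rw [e.inv_hom_id, DescAppLib.pull_id])) }

end JacTorsLib
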